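import Cfsg.Agent.H740.K4.Equiv_m3
import Cfsg.Agent.H714.K4.Defs
import Cfsg.Agent.H769.PB.CoThreeRank5
import Cfsg.Agent.H970.Sep.Co3Seven
import Cfsg.Agent.H686.CharKit
import Cfsg.Agent.Lib.SchurBound
import Cfsg.Agent.Prune
set_option linter.all false
prune_inst 0x7f00000000000000000000000000000000000000000000000000000000000000000000000000000000000000000000000000000000000000000000000000000000000000000000000000000000000000003fffffffffffffffffffffffffffbeffbdffffffff
open scoped Cfsg.Agent.FastGrp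

/-!
# TEAM K4 (S4947, S4547): the row `Co3` (helper769)

The characters of degrees `1, 23, 275, 8855` are rational (or fixed by the cubing automorphism and real), of odd
degree; their values at an element of order `7` are `1, 2, 2, 0`, with an odd sum: there is a fifth one.
-/

set_option autoImplicit false

universe u

namespace Cfsg.Agent.H769.K4.CoThree

open Cfsg MulAction Cfsg.Agent.H33 Cfsg.Agent.H672.SporIM Cfsg.Agent.Characters.Core
open Cfsg.Agent.H593.IMFrame (Sub perm frame)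
open Cfsg.Agent.H713.Spor.RankThree (pc inner_pc_one inner_ne)
open Cfsg.Agent.H769.PB.CoThreeRank5
open Cfsg.Agent.H419.Spor.Co3 (inc inc_injective inc_fix k y14 inc_k order)
open Cfsg.Agent.H419.Spor.Mathieu (x14)
open Cfsg.Agent.H618.Sigma

/-- The constituent of degree 8855. -/
theorem exists_phi [Fintype Spor.Co3] : ∃ φ : IrrCharacter Spor.Co3, charDegree (φ : Spor.Co3 → ℂ) = 8855 ∧
    classInner (perm Spor.Co3 X) (φ : Spor.Co3 → ℂ) ≠ 0 ∧ ∀ ψ : IrrCharacter Spor.Co3,
      classInner (perm Spor.Co3 X) (ψ : Spor.Co3 → ℂ) ≠ 0 → charDegree (ψ : Spor.Co3 → ℂ) = 8855 → ψ = φ := by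
  classical
  have := Fintype.ofFinite X
  obtain ⟨x, b, hb⟩ := exists_sub
  have hne : Nonempty X := ⟨x⟩
  obtain ⟨χ, D, hinj, hperm, hsum, hprod, hsq⟩ := frame hb
  have hperm' : perm Spor.Co3 X = ∑ i, (χ i : Spor.Co3 → ℂ) := by
    funext g
    rw [hperm, Finset.sum_apply]
  have hcon : ∀ η : Spor.Co3 → ℂ, IsIrrCharacter Spor.Co3 η → classInner (perm Spor.Co3 X) η ≠ 0 →
      ∃ i, (χ i : Spor.Co3 → ℂ) = η := by
    intro η hη h0
    by_contra hcon
    push Not at hcon
    apply h0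
    rw [hperm', classInner_sum_left, Finset.sum_eq_zero]
    intro i _
    exact classInner_irr_ne (χ i).2 hη (hcon i)
  have hone : classInner (perm Spor.Co3 X) (1 : Spor.Co3 → ℂ) = 1 := inner_pc_one (G := Spor.Co3) X
  obtain ⟨i, hi⟩ := hcon 1 isIrr_one (by rw [hone]; norm_num)
  have hone' : charDegree (1 : Spor.Co3 → ℂ) = 1 := by
    unfold charDegree
    simp
  have hi1 : charDegree (χ i : Spor.Co3 → ℂ) = 1 := by rw [hi, hone']
  -- the degree 23
  obtain ⟨μ, hμ⟩ := Cfsg.Agent.H843.IMC.Co3A.exists_mu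
  have hμ23 : charDegree (μ : Spor.Co3 → ℂ) = 23 := by
    have h4 := hμ 1
    have h6 : Cfsg.Agent.H419.LeechIrr.lchi inc 1 = 24 := by
      rw [Cfsg.Agent.H419.LeechIrr.lchi, map_one, Cfsg.Agent.SigZeroCo2.Lin.tr8_one]
      norm_num
    rw [h6, Cfsg.Agent.Blocks.Basic.irr_one_eq_charDegree μ.2] at h4
    have : (24 : ℂ) = ((1 + charDegree (μ : Spor.Co3 → ℂ) : ℕ) : ℂ) := by rw [h4]; push_cast; ring
    have h9 : 24 = 1 + charDegree (μ : Spor.Co3 → ℂ) := by exact_mod_cast this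
    omega
  have hμ1 : (μ : Spor.Co3 → ℂ) ≠ 1 := by
    intro h
    rw [h, hone'] at hμ23
    omega
  have hXμ : classInner (perm Spor.Co3 X) (μ : Spor.Co3 → ℂ) ≠ 0 := by
    refine inner_ne inc μ hμ1 (d := 1) (fun g => by rw [hμ g]; norm_num) X (fun x => x.1) (fun _ _ => rfl) ?_
    intro z
    have h1 : 1 < Nat.card X := by rw [card_X]; norm_num
    have hnt : Nontrivial X := Finite.one_lt_card_iff_nontrivial.1 h1
    obtain ⟨w, hw⟩ := exists_ne z
    obtain ⟨g, hg⟩ := exists_smul_eq Spor.Co3 z w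
    refine ⟨g, fun hcon => hw ?_⟩
    rw [← hg]
    exact Subtype.ext hcon
  obtain ⟨j, hj⟩ := hcon μ μ.2 hXμ
  have hj1 : charDegree (χ j : Spor.Co3 → ℂ) = 23 := by rw [hj, hμ23]
  -- the degree 275
  obtain ⟨θ, hθ, hθd, -⟩ := exists_275
  have hXθ : classInner (perm Spor.Co3 X) (θ : Spor.Co3 → ℂ) ≠ 0 := by
    intro h0
    have h1 : (θ : Spor.Co3 → ℂ) + 1 = pc Spor.Co3 Cfsg.Agent.H843.IMC.Co3A.Y := by
      funext g
      rw [Pi.add_apply, hθ, Pi.one_apply, sub_add_cancel]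
      rfl
    have h2 : classInner (perm Spor.Co3 X) (pc Spor.Co3 Cfsg.Agent.H843.IMC.Co3A.Y) = 1 := by
      rw [← h1, classInner_add_right, h0, hone, zero_add]
    have h3 : classInner (perm Spor.Co3 X) (pc Spor.Co3 Cfsg.Agent.H843.IMC.Co3A.Y) =
        (Nat.card (Quotient (orbitRel Spor.Co3 (X × Cfsg.Agent.H843.IMC.Co3A.Y))) : ℂ) := by
      have h4 := classInner_def (pc Spor.Co3 X) (pc Spor.Co3 Cfsg.Agent.H843.IMC.Co3A.Y)
      change classInner (perm Spor.Co3 X) (pc Spor.Co3 Cfsg.Agent.H843.IMC.Co3A.Y) = _ at h4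
      rw [h4, ← Cfsg.Agent.S0157.avg_fixedBy (G := Spor.Co3) (X × Cfsg.Agent.H843.IMC.Co3A.Y)]
      congr 1
      refine Finset.sum_congr rfl fun g _ => ?_
      rw [Cfsg.Agent.S0157.card_fixedBy_prod, pc, pc, Complex.conj_natCast]
      push_cast
      rfl
    rw [h2] at h3
    have h5 : Nat.card (Quotient (orbitRel Spor.Co3 (X × Cfsg.Agent.H843.IMC.Co3A.Y))) = 1 := by exact_mod_cast h3.symm
    have h6 : Subsingleton (Quotient (orbitRel Spor.Co3 (X × Cfsg.Agent.H843.IMC.Co3A.Y))) :=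
      (Nat.card_eq_one_iff_unique.1 h5).1
    have h7 : IsPretransitive Spor.Co3 (X × Cfsg.Agent.H843.IMC.Co3A.Y) :=
      (pretransitive_iff_subsingleton_quotient Spor.Co3 _).2 h6
    have hY : Nonempty Cfsg.Agent.H843.IMC.Co3A.Y := by
      refine (Nat.card_pos_iff.1 ?_).1
      rw [Cfsg.Agent.H843.IMC.Co3A.card_Y]
      norm_num
    obtain ⟨y⟩ := hY
    have h8 := (stabilizer Spor.Co3 (x, y)).card_mul_index
    rw [index_stabilizer_of_transitive, Nat.card_prod, card_X, Cfsg.Agent.H843.IMC.Co3A.card_Y,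
      Cfsg.Agent.H843.IMC.Co3A.card_co3] at h8
    omega
  obtain ⟨k, hk⟩ := hcon θ θ.2 hXθ
  have hk1 : charDegree (χ k : Spor.Co3 → ℂ) = 275 := by rw [hk, hθd]
  obtain ⟨c, d, hc, hd, hcd, hall⟩ := dioph (fun i => charDegree (χ i : Spor.Co3 → ℂ)) D
    (fun i => by
      rw [← Cfsg.Agent.H843.IMC.Co3A.card_co3]
      exact Cfsg.Agent.Blocks.Knorr.charDegree_dvd (χ i).2) hi1 hj1 hk1 (by rw [hsum, card_X]) (by
      rw [hprod, card_X]
      decide +kernel) hsq
  -- different degrees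
  have hdeg : ∀ u v : Fin 5, charDegree (χ u : Spor.Co3 → ℂ) = charDegree (χ v : Spor.Co3 → ℂ) → u = v := by
    intro u v huv
    change charDegree (χ c : Spor.Co3 → ℂ) = 2024 at hc
    change charDegree (χ d : Spor.Co3 → ℂ) = 8855 at hd
    rcases hall u with rfl | rfl | rfl | rfl | rfl <;> rcases hall v with rfl | rfl | rfl | rfl | rfl <;>
      first
        | rfl
        | (exfalso; omega)
  have hinner : ∀ (u : Fin 5) (ψ : IrrCharacter Spor.Co3), classInner (perm Spor.Co3 X) (ψ : Spor.Co3 → ℂ) ≠ 0 →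
      charDegree (ψ : Spor.Co3 → ℂ) = charDegree (χ u : Spor.Co3 → ℂ) → ψ = χ u := by
    intro u ψ h0 hd'
    obtain ⟨v, hv⟩ := hcon ψ ψ.2 h0
    have h1 : u = v := hdeg u v (by rw [← hd', ← hv])
    rw [h1]
    exact Subtype.ext hv.symm
  have hself : ∀ u : Fin 5, classInner (perm Spor.Co3 X) (χ u : Spor.Co3 → ℂ) ≠ 0 := by
    intro u
    rw [hperm', classInner_sum_left, Finset.sum_eq_single u]
    · rw [classInner_irr_self (χ u).2]
      norm_num
    · intro v _ hv
      exact classInner_irr_ne (χ v).2 (χ u).2 (fun h => hv (hinj (Subtype.ext h)))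
    · intro h
      exact absurd (Finset.mem_univ _) h
  exact ⟨χ d, hd, hself d, fun ψ h0 hd' => hinner d ψ h0 (by rw [hd']; exact hd.symm)⟩

theorem fixedBy_pow {G : Type*} [Group G] [Finite G] {Ω : Type*} [MulAction G Ω] {m : ℕ}
    (hm : m.Coprime (Nat.card G)) (g : G) : fixedBy Ω (g ^ m) = fixedBy Ω g := by
  ext x
  constructor
  · intro h
    have h1 : (Nat.card G).Coprime m := hm.symm
    obtain ⟨y, hy⟩ : ∃ j : ℕ, (g ^ m) ^ j = g := by
      have h2 : (orderOf g).Coprime m := h1.coprime_dvd_left (orderOf_dvd_natCard g)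
      obtain ⟨j, hj⟩ := exists_pow_eq_self_of_coprime h2.symm
      exact ⟨j, hj⟩
    rw [← hy]
    exact smul_pow_of_fixed h y
  · intro h
    exact smul_pow_of_fixed h m
where
  smul_pow_of_fixed {g : G} {x : Ω} (h : g • x = x) (n : ℕ) : g ^ n • x = x := by
    induction n with
    | zero => rw [pow_zero, one_smul]
    | succ n ih => rw [pow_succ, mul_smul, h, ih]

open Cfsg.Agent.H740.K4 in
/-- The character of degree 8855 is good. -/
theorem exists_good_phi : ∃ φ : IrrCharacter Spor.Co3, charDegree (φ : Spor.Co3 → ℂ) = 8855 ∧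
    H601.K4.Good (φ : Spor.Co3 → ℂ) := by
  classical
  have := Fintype.ofFinite Spor.Co3
  have := Fintype.ofFinite X
  obtain ⟨φ, hd, h0, huniq⟩ := exists_phi
  obtain ⟨m, hm⟩ := exists_cube Spor.Co3
  have hs : ∀ g, perm Spor.Co3 X (g ^ m) = perm Spor.Co3 X g := by
    intro g
    unfold perm
    rw [fixedBy_pow hm.coprime g]
  have hr : ∀ g, (perm Spor.Co3 X g).im = 0 := by
    intro g
    unfold perm
    exact Complex.natCast_im _
  refine ⟨φ, hd, good_of hm φ.2 ⟨?_, by rw [hd]; decide, ?_⟩⟩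
  · rw [← cj_eq_iff]
    apply huniq
    · rw [mul_cj hr]
      exact fun h => h0 ((map_eq_zero _).1 h)
    · rw [charDegree_cj, hd]
  · rw [← sig_eq_iff hm]
    apply huniq
    · rw [mul_sig hm hs]
      exact h0
    · rw [charDegree_sig, hd]

/-! ### The element of order 7 -/

/-- the element of order 7 -/
noncomputable def t : Spor.Co3 := k y14 ^ 2

theorem order_t : orderOf t = 7 := by
  rw [t, orderOf_pow' _ (by norm_num), order]
  norm_num

theorem fix_t : Nat.card (fixedBy GolayPt (x14 ^ 2)) = 3 := by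
  have h : ∀ p : GolayPt, (cubeTwist * H419.Spor.Mathieu.M * H419.Spor.Mathieu.T)
      ((cubeTwist * H419.Spor.Mathieu.M * H419.Spor.Mathieu.T) p) = p ↔
      p = none ∨ p = some 1 ∨ p = some 2 := by decide +kernel
  have h1 : fixedBy GolayPt (x14 ^ 2) = ({none, some 1, some 2} : Set GolayPt) := by
    ext p
    rw [mem_fixedBy, pow_two, mul_smul]
    exact h p
  rw [h1, Nat.card_coe_set_eq, Set.ncard_eq_three]
  exact ⟨none, some 1, some 2, by decide, by decide, by decide, rfl⟩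

theorem card_cent_t : Nat.card (Subgroup.centralizer ({t} : Set Spor.Co3)) = 42 := by
  have h1 := (Cfsg.Agent.H970.Sep.Co3.cn7 (T := Spor.Co3) ⟨MulEquiv.refl _⟩ (Subgroup.zpowers t)
    (by rw [Nat.card_zpowers, order_t])).1
  have h2 : Subgroup.centralizer ({t} : Set Spor.Co3) =
      Subgroup.centralizer ((Subgroup.zpowers t : Subgroup Spor.Co3) : Set Spor.Co3) := by
    ext g
    rw [Subgroup.mem_centralizer_singleton_iff, Subgroup.mem_centralizer_iff]
    constructor
    · rintro h _ ⟨n, rfl⟩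
      exact ((Commute.symm h : Commute t g).zpow_left n).eq
    · intro h
      exact (h t (Subgroup.mem_zpowers t)).symm
  rw [h2, h1]

theorem exists_good_mu : ∃ μ : IrrCharacter Spor.Co3, charDegree (μ : Spor.Co3 → ℂ) = 23 ∧
    H601.K4.Good (μ : Spor.Co3 → ℂ) ∧ (μ : Spor.Co3 → ℂ) t = 2 := by
  obtain ⟨μ, hμ⟩ := Cfsg.Agent.H843.IMC.Co3A.exists_mu
  have hμ23 : charDegree (μ : Spor.Co3 → ℂ) = 23 := by
    have h4 := hμ 1
    have h6 : Cfsg.Agent.H419.LeechIrr.lchi inc 1 = 24 := by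
      rw [Cfsg.Agent.H419.LeechIrr.lchi, map_one, Cfsg.Agent.SigZeroCo2.Lin.tr8_one]
      norm_num
    rw [h6, Cfsg.Agent.Blocks.Basic.irr_one_eq_charDegree μ.2] at h4
    have : (24 : ℂ) = ((1 + charDegree (μ : Spor.Co3 → ℂ) : ℕ) : ℂ) := by rw [h4]; push_cast; ring
    have h9 : 24 = 1 + charDegree (μ : Spor.Co3 → ℂ) := by exact_mod_cast this
    omega
  refine ⟨μ, hμ23, Cfsg.Agent.H740.K4.good_of_rat μ.2 (fun g => ?_) (by rw [hμ23]; decide), ?_⟩
  · have h1 := hμ g
    refine ⟨(Cfsg.Agent.Co2Type.Mono.tr8 (inc g) : ℚ) / 8 - 1, ?_⟩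
    rw [Cfsg.Agent.H419.LeechIrr.lchi] at h1
    push_cast
    linear_combination -h1
  · have h1 := hμ t
    have h2 : inc t = Cfsg.Agent.SporadicA.Co0Mono.permCo0 (x14 ^ 2) := by
      rw [t, map_pow, inc_k, map_pow]
      rfl
    rw [Cfsg.Agent.H419.LeechFix.lchi_perm inc h2, fix_t] at h1
    push_cast at h1
    linear_combination -h1

theorem exists_good_theta : ∃ θ : IrrCharacter Spor.Co3, charDegree (θ : Spor.Co3 → ℂ) = 275 ∧
    H601.K4.Good (θ : Spor.Co3 → ℂ) ∧ (θ : Spor.Co3 → ℂ) t = 2 := by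
  classical
  have : Finite (IrrCharacter Spor.Co3) := finite_irr
  have := Fintype.ofFinite (IrrCharacter Spor.Co3)
  obtain ⟨θ, hθ, hd, -⟩ := exists_275
  refine ⟨θ, hd, Cfsg.Agent.H740.K4.good_of_rat θ.2 (fun g => ?_) (by rw [hd]; decide), ?_⟩
  · refine ⟨(Nat.card (fixedBy Cfsg.Agent.H843.IMC.Co3A.Y g) : ℚ) - 1, ?_⟩
    rw [hθ]
    push_cast
    ring
  · obtain ⟨f, hf⟩ : ∃ f : ℕ, Nat.card (fixedBy Cfsg.Agent.H843.IMC.Co3A.Y t) = f := ⟨_, rfl⟩
    have h1 := hθ t
    rw [hf] at h1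
    -- the congruence
    have h2 : (7 : ℤ) ∣ (275 : ℕ) - ((f : ℤ) - 1) := by
      refine Cfsg.Agent.Lib.SchurBound.dvd_sub_of_pow (isIrr_isCharacter θ.2) (p := 7) (k := 1) (g := t)
        (by norm_num) (by rw [pow_one, ← order_t, pow_orderOf_eq_one]) (n := 275) ?_ (c := (f : ℤ) - 1) ?_
      · rw [Cfsg.Agent.Blocks.Basic.irr_one_eq_charDegree θ.2, hd]
      · rw [h1]
        push_cast
        ring
    -- the bound
    have h3 : ((f : ℝ) - 1) ^ 2 ≤ 42 := by
      have h4 := Cfsg.Agent.H686.CharKit.sum_normSq (G := Spor.Co3) t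
      rw [card_cent_t] at h4
      have h5 : Complex.normSq ((θ : Spor.Co3 → ℂ) t) = ((f : ℝ) - 1) ^ 2 := by
        rw [h1]
        have : ((f : ℂ) - 1) = (((f : ℝ) - 1 : ℝ) : ℂ) := by push_cast; ring
        rw [this, Complex.normSq_ofReal]
        ring
      rw [← h5]
      have h6 : Complex.normSq ((θ : Spor.Co3 → ℂ) t) ≤
          ∑ χ : IrrCharacter Spor.Co3, Complex.normSq ((χ : Spor.Co3 → ℂ) t) :=
        Finset.single_le_sum (f := fun χ : IrrCharacter Spor.Co3 => Complex.normSq ((χ : Spor.Co3 → ℂ) t))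
          (fun χ _ => Complex.normSq_nonneg _) (Finset.mem_univ θ)
      rw [h4] at h6
      exact_mod_cast h6
    have h7 : f ≤ 7 := by
      by_contra hcon
      have h8 : (8 : ℝ) ≤ f := by exact_mod_cast (show 8 ≤ f by omega)
      nlinarith
    have h8 : f = 3 := by omega
    rw [h1, h8]
    norm_num

/-- **`Co3` has five good characters.** -/
theorem good5_model : H601.K4.Good5 Spor.Co3 := by
  obtain ⟨μ, hμ, gμ, tμ⟩ := exists_good_mu
  obtain ⟨θ, hθ, gθ, tθ⟩ := exists_good_theta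
  obtain ⟨φ, hφ, gφ⟩ := exists_good_phi
  have tφ : (φ : Spor.Co3 → ℂ) t = 0 :=
    Cfsg.Agent.H740.K4.zero_of_dvd (p := 7) (n := 1) (by norm_num)
      (by rw [Cfsg.Agent.H843.IMC.Co3A.card_co3]; norm_num)
      (by rw [Cfsg.Agent.H843.IMC.Co3A.card_co3]; norm_num) φ.2
      (d := 8855) (by rw [Cfsg.Agent.Blocks.Basic.irr_one_eq_charDegree φ.2, hφ]) (by norm_num)
      (by rw [order_t])
  have hone : charDegree (fun _ : Spor.Co3 => (1 : ℂ)) = 1 := by
    unfold charDegree
    simp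
  have hdeg : ∀ i : Fin 4, charDegree ((![fun _ => 1, (μ : Spor.Co3 → ℂ), θ, φ] : Fin 4 → Spor.Co3 → ℂ) i) =
      (![1, 23, 275, 8855] : Fin 4 → ℕ) i := by
    intro i
    fin_cases i
    · exact hone
    · exact hμ
    · exact hθ
    · exact hφ
  refine Cfsg.Agent.H740.K4.good5_of_four (by rw [Cfsg.Agent.H843.IMC.Co3A.card_co3]; decide)
    (χ := ![fun _ => 1, (μ : Spor.Co3 → ℂ), θ, φ]) ?_ ?_ (t := t) (by rw [order_t]; decide) (z := ![1, 2, 2, 0]) ?_
    (by decide)
  · intro i j hij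
    have h1 := congrArg charDegree hij
    rw [hdeg, hdeg] at h1
    have h2 : Function.Injective (![1, 23, 275, 8855] : Fin 4 → ℕ) := by decide
    exact h2 h1
  · intro i
    fin_cases i
    · exact Cfsg.Agent.H740.K4.good_one'
    · exact gμ
    · exact gθ
    · exact gφ
  · intro i
    fin_cases i
    · simp
    · simpa using tμ
    · simpa using tθ
    · simpa using tφ

/-- **The row `Co3` of TEAM K4.** -/
theorem good5_co3 {S : Type u} [Group S] (h : Spor.IsoCo3 S) : H601.K4.Good5 S := by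
  obtain ⟨e⟩ := h
  exact Cfsg.Agent.H740.K4.good5_of_equiv e good5_model

end Cfsg.Agent.H769.K4.CoThree

private theorem dce_9dc3df0f7226 : _root_.True := by
  try have : _root_.True := by simp only [_root_.Cfsg.Agent.H769.K4.CoThree.t.eq_1]
  exact _root_.True.intro
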